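import Cfsg.Agent.H789.IF.HNEven
import Cfsg.Agent.H546.IF.OddHN

/-!
# S5719: the row `HN` (helper789, with helper285, helper546)
-/

set_option autoImplicit false

namespace Cfsg.Agent.H789.IF.HNRow

open Subgroup Cfsg Cfsg.Agent.H209.Fxy

/-- **The row `HN`.** -/
theorem row_hn : Row fun T => Spor.IsoHN T := by
  intro T _ _ _ hn h
  have hO : KillO T := Cfsg.Agent.H546.IFO.HN.killO_HN hn h
  obtain ⟨e⟩ := h
  have : Finite Cfsg.Spor.HN := Finite.of_equiv _ e.toEquiv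
  intro A Γ hA
  by_cases hev : 2 ∣ Nat.card A
  · have : Fact (Nat.Prime 2) := ⟨Nat.prime_two⟩
    obtain ⟨t, ht⟩ := exists_prime_orderOf_dvd_card' 2 hev
    have hE : KillE Cfsg.Spor.HN := HNEven.killE
    refine hE _ _ (hA.map e) ⟨e t, ⟨t, t.2, rfl⟩, ?_⟩
    rw [MulEquiv.orderOf_eq, ← ht, orderOf_coe]
  · exact hO A Γ hA (Nat.not_even_iff_odd.1 fun h1 => hev h1.two_dvd)

end Cfsg.Agent.H789.IF.HNRow
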