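import Cfsg.Agent.H285.IF.HNa
import Cfsg.Agent.H789.IF.HNAbs
import Cfsg.Agent.KFacts.HN.Inst
import Cfsg.Agent.SigZeroHN.Main

/-!
# S5719, cell `hn`: a point stabiliser of even order (helper789)

* `no_W0` : `IF A Γ` in `HN`: `W0 ∉ A`;
* `killE` : `KillE Spor.HN`.
-/

set_option autoImplicit false
set_option maxRecDepth 100000

namespace Cfsg.Agent.H789.IF.HNEven

open Subgroup Cfsg Cfsg.Agent.H209.Fxy
open Cfsg.Agent.HN Cfsg.Agent.HN.Pres Cfsg.Agent.HN.H0Basic Cfsg.Agent.HN.P1408 Cfsg.Agent.HN.XMat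
open Cfsg.Agent.HN.XStruct Cfsg.Agent.HN.XWords Cfsg.Agent.HN.XQuot Cfsg.Agent.HN.XInst
open Cfsg.Agent.KFacts.HN

abbrev G : Type := Cfsg.Spor.HN

instance finG : Finite G := Nat.finite_of_card_ne_zero (by rw [S1701.result.2]; norm_num)

theorem ord_W0 : orderOf (W0 : G) = 2 := by
  exact orderOf_eq_prime (by rw [pow_two]; exact W0_sq) PCard.W0_ne_one

theorem idx_W0 : (centralizer ({W0} : Set G)).index = 74064375 := by
  have h1 := (centralizer ({W0} : Set G)).index_mul_card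
  rw [PCard.card_centralizer, S1701.result.2] at h1
  exact Nat.eq_of_mul_eq_mul_right (by norm_num : 0 < 3686400) (h1.trans (by norm_num))

variable {A : Subgroup G} {Γ : Subgroup (MulAut G)}

/-- the image of `A ∩ C(W0)` in `C(W0)/⟨W0⟩` -/
noncomputable def Y (A : Subgroup G) : Subgroup (KK (W0 : G)) :=
  (A.subgroupOf (centralizer ({W0} : Set G))).map (QuotientGroup.mk' (Zw W0))

theorem index_Y (hW : W0 ∈ A) : (Y A).index = A.relIndex (centralizer ({W0} : Set G)) := by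
  rw [Y, Subgroup.index_map, QuotientGroup.ker_mk', (QuotientGroup.mk' (Zw (W0 : G))).range_eq_top.2
    (QuotientGroup.mk'_surjective _), Subgroup.index_top, mul_one, Subgroup.relIndex]
  congr 1
  apply sup_eq_left.2
  rw [Zw, zpowers_le]
  exact hW

theorem no_W0 (h : IF A Γ) (hW : W0 ∈ A) : False := by
  have := H285.IFHNa.simpleHN
  obtain ⟨-, -, -, -, h5⟩ := H999.IFB.IF.E2' h H285.IFHNa.hna hW ord_W0
  have h6 := (h5 _ le_rfl).1
  rw [idx_W0] at h6
  have h7 : A.relIndex (centralizer ({W0} : Set G)) ≤ 37 := by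
    by_contra hcon
    have h7 : 38 ^ 5 ≤ A.relIndex (centralizer ({W0} : Set G)) ^ 5 := Nat.pow_le_pow_left (by omega) 5
    omega
  have h8 : A.relIndex (centralizer ({W0} : Set G)) ≠ 0 := Subgroup.index_ne_zero_of_finite
  refine HNAbs.abs (k := KFacts.HN.k) (γ := KFacts.HN.γ) hyp.toBas (Y := Y A) (by rwa [index_Y hW]) (by rwa [index_Y hW]) ?_
  intro m hm hY
  obtain ⟨u, hu, hum, hc1, hc2⟩ := hyp.mem_D_of_DD hm
  obtain ⟨v, hv, hvm⟩ := hY
  have hvc : (v : G) * W0 = W0 * v := mem_centralizer_singleton_iff.1 v.2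
  have hvA : (v : G) ∈ A := hv
  have h9 : π (W0 : G) (v : G) = π W0 u := by
    rw [hum, ← hvm, π_of hvc]
    rfl
  rcases (π_eq_iff W0_sq hvc hu).1 h9 with h10 | h10
  · exact H285.IFHNa.no_2A h hvA (by rw [← h10]; exact hc1.symm)
  · refine H285.IFHNa.no_2A h (A.mul_mem hvA hW) ?_
    rw [← h10]
    exact hc1.symm

/-- **The cell `hn`, `|A|` even.** -/
theorem killE : KillE G := by
  rintro A Γ h ⟨t, ht, h2⟩
  rcases Cfsg.Agent.SigZeroHN.card_centralizer_cases h2 with ⟨hc, -⟩ | ⟨hc, -⟩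
  · exact H285.IFHNa.no_2A h ht hc
  · obtain ⟨g, hg⟩ := isConj_iff.1 hc
    exact no_W0 (h.map (MulAut.conj g)) ⟨t, ht, hg⟩

end Cfsg.Agent.H789.IF.HNEven
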